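import Mathlib.RingTheory.Nullstellensatz
import Mathlib.RingTheory.Ideal.KrullsHeightTheorem
import Mathlib.RingTheory.MvPolynomial.WeightedHomogeneous
import Mathlib.RingTheory.Polynomial.Basic
import Mathlib.LinearAlgebra.TensorProduct.Basic
import Mathlib.LinearAlgebra.FiniteDimensional.Lemmas

set_option autoImplicit false

noncomputable section

universe u v w

open MvPolynomial
open scoped TensorProduct

namespace Groth.Agent.HopfLemma

variable {k : Type*} [Field k] {a b : ℕ}

/-- weight: `+1` on the first group, `-1` on the second -/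
def wt : Fin a ⊕ Fin b → ℤ := Sum.elim (fun _ => 1) (fun _ => -1)

variable (k a b) in
/-- balanced polynomials -/
def bal : Subalgebra k (MvPolynomial (Fin a ⊕ Fin b) k) where
  carrier := {p | IsWeightedHomogeneous wt p (0 : ℤ)}
  mul_mem' {p q} hp hq := by simpa using hp.mul hq
  add_mem' {p q} hp hq := (weightedHomogeneousSubmodule k wt (0 : ℤ)).add_mem hp hq
  algebraMap_mem' r := isWeightedHomogeneous_C wt r

/-- projection -/
def prj : MvPolynomial (Fin a ⊕ Fin b) k →ₗ[k] MvPolynomial (Fin a ⊕ Fin b) k :=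
  weightedHomogeneousComponent (wt (a := a) (b := b)) (0 : ℤ)

theorem prj_mem (p : MvPolynomial (Fin a ⊕ Fin b) k) : prj p ∈ bal k a b :=
  weightedHomogeneousComponent_isWeightedHomogeneous 0 p

theorem prj_mul (h : MvPolynomial (Fin a ⊕ Fin b) k) {t : MvPolynomial (Fin a ⊕ Fin b) k} (ht : t ∈ bal k a b) :
    prj (h * t) = prj h * t := by
  classical
  ext d
  rw [prj, coeff_weightedHomogeneousComponent, coeff_mul, coeff_mul]
  split_ifs with hd
  · refine Finset.sum_congr rfl fun x hx => ?_
    rw [Finset.mem_antidiagonal] at hx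
    by_cases hx2 : coeff x.2 t = 0
    · rw [hx2, mul_zero, mul_zero]
    · rw [coeff_weightedHomogeneousComponent, if_pos]
      have := ht hx2
      rw [← hx, map_add, this, add_zero] at hd
      exact hd
  · symm
    refine Finset.sum_eq_zero fun x hx => ?_
    rw [Finset.mem_antidiagonal] at hx
    by_cases hx2 : coeff x.2 t = 0
    · rw [hx2, mul_zero]
    · rw [coeff_weightedHomogeneousComponent, if_neg, zero_mul]
      have := ht hx2
      rw [← hx, map_add, this, add_zero] at hd
      exact hd

theorem prj_of_mem {t : MvPolynomial (Fin a ⊕ Fin b) k} (ht : t ∈ bal k a b) : prj t = t := by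
  classical
  ext d
  rw [prj, coeff_weightedHomogeneousComponent]
  split_ifs with hd
  · rfl
  · exact (IsWeightedHomogeneous.coeff_eq_zero ht d hd).symm

/-- contraction of an extended ideal -/
theorem mem_of_mem_map {I : Ideal (bal k a b)} {x : bal k a b}
    (hx : (x : MvPolynomial (Fin a ⊕ Fin b) k) ∈ I.map (bal k a b).val.toRingHom) : x ∈ I := by
  suffices h : ∀ p ∈ I.map (bal k a b).val.toRingHom, (⟨prj p, prj_mem p⟩ : bal k a b) ∈ I by
    have h1 := h _ hx
    convert h1 using 1
    exact Subtype.ext (prj_of_mem x.2).symm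
  intro p hp
  induction hp using Submodule.span_induction with
  | mem q hq =>
    obtain ⟨y, hy, rfl⟩ := hq
    rwa [show (⟨prj ((bal k a b).val.toRingHom y), prj_mem _⟩ : bal k a b) = y from Subtype.ext (prj_of_mem y.2)]
  | zero => convert I.zero_mem using 1; exact Subtype.ext (map_zero _)
  | add p q _ _ hp hq => convert I.add_mem hp hq using 1; exact Subtype.ext (map_add _ _ _)
  | smul r q hq hq' =>
    -- `q` lies in the ideal generated by balanced elements
    clear hq'
    revert r
    induction hq using Submodule.span_induction with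
    | mem y hy =>
      obtain ⟨y, hy, rfl⟩ := hy
      intro r
      convert I.mul_mem_left ⟨prj r, prj_mem r⟩ hy using 1
      exact Subtype.ext (prj_mul r y.2)
    | zero => intro r; convert I.zero_mem using 1; exact Subtype.ext (by simp)
    | add p q _ _ hp hq =>
      intro r
      convert I.add_mem (hp r) (hq r) using 1
      exact Subtype.ext (by simp [mul_add])
    | smul s q _ hq =>
      intro r
      convert hq (r * s) using 1
      exact Subtype.ext (by simp [mul_assoc])

instance : IsNoetherianRing (bal k a b) := by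
  refine isNoetherianRing_iff.2 (isNoetherian_iff'.2 ?_)
  have hinj : ∀ I J : Ideal (bal k a b), I.map (bal k a b).val.toRingHom ≤ J.map (bal k a b).val.toRingHom → I ≤ J :=
    fun I J h x hx => mem_of_mem_map (h (Ideal.mem_map_of_mem _ hx))
  exact (OrderEmbedding.ofMapLEIff (fun I : Ideal (bal k a b) => I.map (bal k a b).val.toRingHom)
    fun I J => ⟨hinj I J, Ideal.map_mono⟩).wellFoundedGT

/-- order in which variables are killed -/
def idx : Fin a ⊕ Fin b → ℕ := Sum.elim (fun i => if i.1 + 1 = a then a + b else i.1) (fun j => a - 1 + j.1)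

/-- kill the variables of index `< n` -/
def kill (n : ℕ) : MvPolynomial (Fin a ⊕ Fin b) k →ₐ[k] MvPolynomial (Fin a ⊕ Fin b) k :=
  aeval fun i => if idx i < n then 0 else X i

/-- the chain of primes -/
def chain (n : ℕ) : Ideal (bal k a b) := RingHom.ker ((kill n).comp (bal k a b).val).toRingHom

theorem mem_chain_iff {n : ℕ} {p : bal k a b} :
    p ∈ chain (k := k) (a := a) (b := b) n ↔ kill n (p : MvPolynomial (Fin a ⊕ Fin b) k) = 0 := RingHom.mem_ker

instance (n : ℕ) : (chain (k := k) (a := a) (b := b) n).IsPrime := RingHom.ker_isPrime _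

theorem chain_le (n : ℕ) : chain (k := k) (a := a) (b := b) n ≤ chain (n + 1) := by
  intro p hp
  have h : (kill (k := k) (a := a) (b := b) (n + 1)).comp (kill n) = kill (n + 1) := by
    refine algHom_ext fun i => ?_
    by_cases h1 : idx i < n
    · simp only [kill, AlgHom.comp_apply, aeval_X, if_pos h1, if_pos (Nat.lt_succ_of_lt h1), map_zero]
    · simp [kill, h1]
  show kill (n + 1) (p : MvPolynomial (Fin a ⊕ Fin b) k) = 0
  rw [← h, AlgHom.comp_apply, show kill n (p : MvPolynomial (Fin a ⊕ Fin b) k) = 0 from hp, map_zero]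

theorem mul_X_mem (i : Fin a) (j : Fin b) : X (Sum.inl i) * X (Sum.inr j) ∈ bal k a b := by
  show IsWeightedHomogeneous wt (X (Sum.inl i) * X (Sum.inr j) : MvPolynomial (Fin a ⊕ Fin b) k) (0 : ℤ)
  have h := (isWeightedHomogeneous_X k (wt (a := a) (b := b)) (Sum.inl i)).mul
    (isWeightedHomogeneous_X k wt (Sum.inr j))
  simpa [wt] using h

theorem chain_lt (ha : 0 < a) (hb : 0 < b) {n : ℕ} (hn : n < a + b - 1) :
    chain (k := k) (a := a) (b := b) n < chain (n + 1) := by
  classical
  refine lt_of_le_not_ge (chain_le n) fun h => ?_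
  obtain ⟨i, j, hi, hj, hn1⟩ : ∃ (i : Fin a) (j : Fin b), n ≤ idx (Sum.inl i : Fin a ⊕ Fin b) ∧
      n ≤ idx (Sum.inr j : Fin a ⊕ Fin b) ∧
      (idx (Sum.inl i : Fin a ⊕ Fin b) = n ∨ idx (Sum.inr j : Fin a ⊕ Fin b) = n) := by
    by_cases hna : n + 1 < a
    · refine ⟨⟨n, by omega⟩, ⟨0, hb⟩, ?_, ?_, Or.inl ?_⟩
      · show n ≤ if n + 1 = a then a + b else n
        split_ifs <;> omega
      · show n ≤ a - 1 + 0
        omega
      · show (if n + 1 = a then a + b else n) = n
        rw [if_neg (by omega)]
    · refine ⟨⟨a - 1, by omega⟩, ⟨n - (a - 1), by omega⟩, ?_, ?_, Or.inr ?_⟩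
      · show n ≤ if a - 1 + 1 = a then a + b else a - 1
        rw [if_pos (by omega)]; omega
      · show n ≤ a - 1 + (n - (a - 1))
        omega
      · show a - 1 + (n - (a - 1)) = n
        omega
  have h1 : (⟨_, mul_X_mem i j⟩ : bal k a b) ∈ chain (n + 1) := by
    rw [mem_chain_iff]
    rw [map_mul, kill, aeval_X, aeval_X]
    rcases hn1 with h' | h' <;> rw [h', if_pos (Nat.lt_succ_self n)]
    · exact zero_mul _
    · exact mul_zero _
  have h2 := mem_chain_iff.1 (h h1)
  rw [map_mul, kill, aeval_X, aeval_X, if_neg (not_lt.2 hi), if_neg (not_lt.2 hj)] at h2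
  exact mul_ne_zero (X_ne_zero _) (X_ne_zero _) h2

theorem le_height (ha : 0 < a) (hb : 0 < b) {n : ℕ} (hn : n ≤ a + b - 1) :
    (n : ℕ∞) ≤ (chain (k := k) (a := a) (b := b) n).height := by
  induction n with
  | zero => exact bot_le
  | succ m ih =>
    refine le_trans ?_ (Ideal.height_add_one_le_of_lt_of_isPrime (chain_lt ha hb (by omega : m < a + b - 1)))
    push_cast
    exact add_le_add (ih (by omega)) le_rfl

/-- Hopf's lemma, in coordinates. -/
theorem le_of_bilinear [IsAlgClosed k] (ha : 0 < a) (hb : 0 < b) (r : ℕ) (c : Fin r → Fin a → Fin b → k)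
    (h : ∀ (u : Fin a → k) (v : Fin b → k), (∀ l, ∑ i, ∑ j, c l i j * u i * v j = 0) → u = 0 ∨ v = 0) :
    a + b - 1 ≤ r := by
  classical
  let φ : Fin r → MvPolynomial (Fin a ⊕ Fin b) k := fun l =>
    ∑ i, ∑ j, C (c l i j) * (X (Sum.inl i) * X (Sum.inr j))
  have hφ : ∀ l, φ l ∈ bal k a b := fun l => sum_mem fun i _ => sum_mem fun j _ =>
    mul_mem ((bal k a b).algebraMap_mem _) (mul_X_mem i j)
  let I : Ideal (bal k a b) := Ideal.span (Set.range fun l => ⟨φ l, hφ l⟩)
  let top := chain (k := k) (a := a) (b := b) (a + b - 1)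
  have hkill : ∀ j : Fin b, idx (Sum.inr j : Fin a ⊕ Fin b) < a + b - 1 := fun j => by simp [idx]; omega
  have hle : I ≤ top := Ideal.span_le.2 (by
    rintro _ ⟨l, rfl⟩
    show kill (a + b - 1) (φ l) = 0
    simp [φ, kill, hkill])
  have hrad : top ≤ I.radical := by
    intro p hp
    let J := I.map (bal k a b).val.toRingHom
    have hp' : kill (a + b - 1) (p : MvPolynomial (Fin a ⊕ Fin b) k) = 0 := hp
    have hpJ : (p : MvPolynomial (Fin a ⊕ Fin b) k) ∈ vanishingIdeal k (zeroLocus k J) := by
      intro x hx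
      have hc0 : coeff 0 (p : MvPolynomial (Fin a ⊕ Fin b) k) = 0 := by
        have h1 : (aeval (R := k) fun _ : Fin a ⊕ Fin b => (0 : k)).comp (kill (a + b - 1)) =
            aeval fun _ => (0 : k) := algHom_ext fun i => by
          simp only [kill, AlgHom.comp_apply, aeval_X]; split_ifs <;> simp
        have h2 := AlgHom.congr_fun h1 (p : MvPolynomial (Fin a ⊕ Fin b) k)
        rw [AlgHom.comp_apply, hp', map_zero] at h2
        simpa [aeval_zero', constantCoeff_eq] using h2.symm
      have hxφ : ∀ l, ∑ i, ∑ j, c l i j * x (Sum.inl i) * x (Sum.inr j) = 0 := fun l => by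
        have := hx (φ l) (Ideal.mem_map_of_mem (bal k a b).val.toRingHom
          (Ideal.subset_span ⟨l, rfl⟩ : (⟨φ l, hφ l⟩ : bal k a b) ∈ I))
        simpa [φ, mul_assoc] using this
      rw [aeval_def, eval₂_eq]
      refine Finset.sum_eq_zero fun d hd => ?_
      have hd0 : d ≠ 0 := fun h0 => mem_support_iff.1 hd (h0 ▸ hc0)
      have hw := p.2 (mem_support_iff.1 hd)
      have hsum : (∑ i, (d (Sum.inl i) : ℤ)) - ∑ j, (d (Sum.inr j) : ℤ) = 0 := by
        rw [← hw, Finsupp.weight_apply, Finsupp.sum_fintype _ _ (by simp), Fintype.sum_sum_type]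
        simp [wt, sub_eq_add_neg]
      have hne : (∃ i, d (Sum.inl i) ≠ 0) ∧ ∃ j, d (Sum.inr j) ≠ 0 := by
        by_contra hcon
        apply hd0
        rw [not_and_or] at hcon
        rcases hcon with hcon | hcon <;> push Not at hcon
        · have h2 : ∀ j, d (Sum.inr j) = 0 := fun j => by
            simp [hcon] at hsum
            have := (Finset.sum_eq_zero_iff_of_nonneg (fun j _ => Int.natCast_nonneg (d (Sum.inr j)))).1 hsum j (Finset.mem_univ j)
            exact_mod_cast this
          ext (i | j)
          · exact hcon i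
          · exact h2 j
        · have h2 : ∀ i, d (Sum.inl i) = 0 := fun j => by
            simp [hcon] at hsum
            have := (Finset.sum_eq_zero_iff_of_nonneg (fun j _ => Int.natCast_nonneg (d (Sum.inl j)))).1 hsum j (Finset.mem_univ j)
            exact_mod_cast this
          ext (i | j)
          · exact h2 i
          · exact hcon j
      refine mul_eq_zero_of_right _ ?_
      obtain ⟨⟨i, hi⟩, ⟨j, hj⟩⟩ := hne
      rcases h (fun i => x (Sum.inl i)) (fun j => x (Sum.inr j)) hxφ with hu | hv
      · exact Finset.prod_eq_zero (Finsupp.mem_support_iff.2 hi) (by rw [congrFun hu i]; simp [hi])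
      · exact Finset.prod_eq_zero (Finsupp.mem_support_iff.2 hj) (by rw [congrFun hv j]; simp [hj])
    rw [vanishingIdeal_zeroLocus_eq_radical] at hpJ
    obtain ⟨N, hN⟩ := hpJ
    exact ⟨N, mem_of_mem_map (x := p ^ N) (show ((p ^ N : bal k a b) : MvPolynomial (Fin a ⊕ Fin b) k) ∈ J by rw [Subalgebra.coe_pow]; exact hN)⟩
  have hmin : top ∈ I.minimalPrimes :=
    ⟨⟨inferInstance, hle⟩, fun q hq _ => hrad.trans (hq.1.radical_le_iff.2 hq.2)⟩
  have h1 := Ideal.height_le_card_of_mem_minimalPrimes_span (Set.finite_range _) hmin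
  have h2 := (le_height (k := k) ha hb le_rfl).trans h1
  have h3 : (Set.range fun l => (⟨φ l, hφ l⟩ : bal k a b)).ncard ≤ r := by
    rw [← Set.image_univ]
    exact (Set.ncard_image_le Set.finite_univ).trans (by simp [Set.ncard_univ])
  exact (Nat.cast_le.1 h2).trans h3

/-- Hopf's lemma. -/
theorem finrank_add_le {A : Type u} {B : Type v} {V : Type w} [AddCommGroup A] [Module k A] [AddCommGroup B] [Module k B]
    [AddCommGroup V] [Module k V] [IsAlgClosed k] [FiniteDimensional k A] [FiniteDimensional k B]
    [Nontrivial A] [Nontrivial B] (ν : A ⊗[k] B →ₗ[k] V)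
    (hν : ∀ (x : A) (y : B), ν (x ⊗ₜ[k] y) = 0 → x = 0 ∨ y = 0) :
    Module.finrank k A + Module.finrank k B ≤ Module.finrank k (LinearMap.range ν) + 1 := by
  let eA := Module.finBasis k A
  let eB := Module.finBasis k B
  let eR := Module.finBasis k (LinearMap.range ν)
  have := le_of_bilinear (k := k) (Module.finrank_pos (R := k) (M := A)) (Module.finrank_pos (R := k) (M := B))
    (Module.finrank k (LinearMap.range ν))
    (fun l i j => eR.repr (ν.rangeRestrict (eA i ⊗ₜ[k] eB j)) l) fun u v huv => by
      let x : A := ∑ i, u i • eA i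
      let y : B := ∑ j, v j • eB j
      have h0 : ν.rangeRestrict (x ⊗ₜ[k] y) = 0 := by
        refine eR.repr.injective (Finsupp.ext fun l => ?_)
        rw [map_zero, Finsupp.zero_apply, ← huv l]
        simp only [x, y, TensorProduct.sum_tmul, TensorProduct.tmul_sum, TensorProduct.smul_tmul', TensorProduct.tmul_smul,
          map_sum, map_smul, Finsupp.finsetSum_apply, Finsupp.smul_apply, smul_eq_mul]
        simp only [← TensorProduct.smul_tmul', map_smul, Finsupp.smul_apply, smul_eq_mul, Finset.mul_sum]
        rw [Finset.sum_comm]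
        exact Finset.sum_congr rfl fun i _ => Finset.sum_congr rfl fun j _ => by ring
      rcases hν x y (congrArg Subtype.val h0) with hx | hy
      · exact Or.inl (funext fun i => Fintype.linearIndependent_iff.1 eA.linearIndependent u hx i)
      · exact Or.inr (funext fun i => Fintype.linearIndependent_iff.1 eB.linearIndependent v hy i)
  omega

end Groth.Agent.HopfLemma
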